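import Mathlib
import Groth.Agent.S2195

/-!
# Finite flat algebras unramified in codimension ≤ 1 are étale (ring level)

Helper library of helper19 (for S14462).
-/

set_option autoImplicit false
universe u v w

namespace Groth.Agent.Helper19.FinFlatPur

open Algebra

/-- Being unramified at a prime can be tested on any model of the localization. -/
theorem isUnramifiedAt_iff_of_isLocalization {R : Type u} {S : Type v} [CommRing R] [CommRing S]
    [Algebra R S] (P : Ideal S) [P.IsPrime] (T : Type w) [CommRing T] [Algebra S T] [Algebra R T]
    [IsScalarTower R S T] [IsLocalization.AtPrime T P] :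
    Algebra.IsUnramifiedAt R P ↔ Algebra.FormallyUnramified R T := by
  let e : Localization.AtPrime P ≃ₐ[S] T := IsLocalization.algEquiv P.primeCompl _ _
  let e' : Localization.AtPrime P ≃ₐ[R] T := e.restrictScalars R
  exact ⟨fun h => .of_equiv e', fun h => .of_equiv e'.symm⟩

theorem isUnramifiedAt_congr {R : Type u} {S : Type v} [CommRing R] [CommRing S]
    [Algebra R S] {P Q : Ideal S} [P.IsPrime] [Q.IsPrime] (h : P = Q)
    (hP : Algebra.IsUnramifiedAt R P) : Algebra.IsUnramifiedAt R Q := by
  subst h; exact hP

section Transfer

variable {R : Type u} {S : Type v} [CommRing R] [CommRing S] [Algebra R S] (M : Submonoid R)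
  {R' : Type u} {S' : Type v} [CommRing R'] [CommRing S'] [Algebra R R'] [Algebra S S']
  [Algebra R' S'] [Algebra R S'] [IsScalarTower R R' S'] [IsScalarTower R S S']
  [IsLocalization M R'] [IsLocalization (Algebra.algebraMapSubmonoid S M) S']

include M in
/-- Unramifiedness at a prime is insensitive to localizing the base and the algebra. -/
theorem isUnramifiedAt_localization_iff (Q' : Ideal S') [Q'.IsPrime] :
    Algebra.IsUnramifiedAt R' Q' ↔ Algebra.IsUnramifiedAt R (Q'.comap (algebraMap S S')) := by
  let T := Localization.AtPrime Q'
  haveI : IsLocalization.AtPrime T (Q'.comap (algebraMap S S')) :=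
    IsLocalization.isLocalization_isLocalization_atPrime_isLocalization
      (Algebra.algebraMapSubmonoid S M) T Q'
  haveI : IsScalarTower R S T := IsScalarTower.of_algebraMap_eq' (by
    rw [IsScalarTower.algebraMap_eq R S' T, IsScalarTower.algebraMap_eq R S S',
      IsScalarTower.algebraMap_eq S S' T, RingHom.comp_assoc])
  haveI : IsScalarTower R R' T := IsScalarTower.of_algebraMap_eq' (by
    rw [IsScalarTower.algebraMap_eq R S' T, IsScalarTower.algebraMap_eq R R' S',
      IsScalarTower.algebraMap_eq R' S' T, RingHom.comp_assoc])
  rw [isUnramifiedAt_iff_of_isLocalization (R := R) (Q'.comap (algebraMap S S')) T]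
  constructor
  · intro h
    haveI : Algebra.FormallyUnramified R' T := h
    haveI : Algebra.FormallyUnramified R R' := .of_isLocalization M
    exact Algebra.FormallyUnramified.comp R R' T
  · intro h
    haveI : Algebra.FormallyUnramified R T := h
    exact Algebra.FormallyUnramified.of_restrictScalars R R' T

end Transfer

/-- Local case: a finite flat algebra over a Noetherian local ring which is unramified at all
primes lying over primes of height `≤ 1` is étale. -/
theorem etale_of_isLocalRing {R : Type u} {S : Type v} [CommRing R] [CommRing S] [Algebra R S]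
    [IsNoetherianRing R] [IsLocalRing R] [Module.Finite R S] [Module.Flat R S]
    (H : ∀ (Q : Ideal S) [Q.IsPrime], (Q.comap (algebraMap R S)).height ≤ 1 →
      Algebra.IsUnramifiedAt R Q) : Algebra.Etale R S := by
  have : Module.Free R S := Module.free_of_flat_of_isLocalRing
  let b := Module.finBasis R S
  rw [Groth.Agent.S2195.result b]
  by_contra hd
  have hne : Ideal.span {Algebra.discr R b} ≠ ⊤ := by rwa [Ne, Ideal.span_singleton_eq_top]
  obtain ⟨q, hq⟩ := Ideal.nonempty_minimalPrimes hne
  haveI : q.IsPrime := hq.1.1
  have hdq : Algebra.discr R b ∈ q := hq.1.2 (Ideal.mem_span_singleton_self _)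
  have hht : q.height ≤ 1 := Ideal.height_le_one_of_isPrincipal_of_mem_minimalPrimes _ q hq
  let Rq := Localization.AtPrime q
  let Sq := Localization (Algebra.algebraMapSubmonoid S q.primeCompl)
  let bq : Module.Basis (Fin (Module.finrank R S)) Rq Sq :=
    b.localizationLocalization Rq q.primeCompl Sq
  have hdisc : Algebra.discr Rq bq = algebraMap R Rq (Algebra.discr R b) :=
    Algebra.discr_localizationLocalization _ _ _ b
  have hnu : ¬ IsUnit (Algebra.discr Rq bq) := by
    rw [hdisc, IsLocalization.AtPrime.isUnit_to_map_iff Rq q]
    exact fun h => h hdq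
  apply hnu
  rw [← Groth.Agent.S2195.result bq]
  have : Module.Free Rq Sq := .of_basis bq
  have : Module.Finite Rq Sq := .of_basis bq
  have : Module.FinitePresentation Rq Sq := Module.finitePresentation_of_projective Rq Sq
  have : Algebra.FormallyUnramified Rq Sq := by
    rw [Algebra.formallyUnramified_iff_forall]
    intro Q'
    rw [isUnramifiedAt_localization_iff (R := R) (S := S) q.primeCompl]
    apply H
    have h1 : (Q'.1.comap (algebraMap S Sq)).comap (algebraMap R S) =
        (Q'.1.comap (algebraMap Rq Sq)).comap (algebraMap R Rq) := by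
      rw [Ideal.comap_comap, Ideal.comap_comap, ← IsScalarTower.algebraMap_eq,
        ← IsScalarTower.algebraMap_eq]
    rw [h1]
    have h2 : Q'.1.comap (algebraMap Rq Sq) ≤ IsLocalRing.maximalIdeal Rq :=
      IsLocalRing.le_maximalIdeal (Ideal.IsPrime.ne_top inferInstance)
    have h3 := Ideal.comap_mono (f := algebraMap R Rq) h2
    have h4 : (IsLocalRing.maximalIdeal Rq).comap (algebraMap R Rq) = q :=
      IsLocalization.AtPrime.under_maximalIdeal Rq q
    rw [h4] at h3
    exact (Ideal.height_mono h3).trans hht
  exact Algebra.Etale.of_formallyUnramified_of_flat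

/-- A finite flat algebra over a Noetherian ring which is unramified at all primes lying over
primes of height `≤ 1` is formally unramified. -/
theorem formallyUnramified_of_codim_one {A : Type u} {B : Type v} [CommRing A] [CommRing B]
    [Algebra A B] [IsNoetherianRing A] [Module.Finite A B] [Module.Flat A B]
    (H : ∀ (P : Ideal B) [P.IsPrime], (P.comap (algebraMap A B)).height ≤ 1 →
      Algebra.IsUnramifiedAt A P) : Algebra.FormallyUnramified A B := by
  rw [Algebra.formallyUnramified_iff_forall]
  intro P
  let p := P.1.comap (algebraMap A B)
  let Ap := Localization.AtPrime p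
  let Bp := Localization (Algebra.algebraMapSubmonoid B p.primeCompl)
  have : Module.Finite Ap Bp := .of_isLocalization A B p.primeCompl
  have : Module.Flat Ap Bp := inferInstance
  have : IsNoetherianRing Ap := IsLocalization.isNoetherianRing p.primeCompl Ap inferInstance
  have hE : Algebra.Etale Ap Bp := etale_of_isLocalRing (fun Q' _ hQ' => by
    rw [isUnramifiedAt_localization_iff (R := A) (S := B) p.primeCompl]
    apply H
    have h1 : (Q'.comap (algebraMap B Bp)).comap (algebraMap A B) =
        (Q'.comap (algebraMap Ap Bp)).comap (algebraMap A Ap) := by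
      rw [Ideal.comap_comap, Ideal.comap_comap, ← IsScalarTower.algebraMap_eq,
        ← IsScalarTower.algebraMap_eq]
    rw [h1]
    exact (IsLocalization.height_under p.primeCompl _).le.trans hQ')
  have hdisj : Disjoint (Algebra.algebraMapSubmonoid B p.primeCompl : Set B) (P.1 : Set B) := by
    rw [Set.disjoint_left]
    rintro _ ⟨a, ha, rfl⟩ haP
    exact ha haP
  let P' := P.1.map (algebraMap B Bp)
  haveI : P'.IsPrime := IsLocalization.isPrime_of_isPrime_disjoint _ Bp P.1 P.2 hdisj
  have hcomap : P'.comap (algebraMap B Bp) = P.1 :=
    IsLocalization.under_map_of_isPrime_disjoint _ Bp P.2 hdisj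
  have h1 : Algebra.IsUnramifiedAt Ap P' :=
    (Algebra.formallyUnramified_iff_forall.mp inferInstance) ⟨P', inferInstance⟩
  rw [isUnramifiedAt_localization_iff (R := A) (S := B) p.primeCompl] at h1
  exact isUnramifiedAt_congr hcomap h1

/-- A finite flat algebra over a Noetherian ring which is unramified at all primes lying over
primes of height `≤ 1` is étale. -/
theorem etale_of_codim_one {A : Type u} {B : Type v} [CommRing A] [CommRing B]
    [Algebra A B] [IsNoetherianRing A] [Module.Finite A B] [Module.Flat A B]
    (H : ∀ (P : Ideal B) [P.IsPrime], (P.comap (algebraMap A B)).height ≤ 1 →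
      Algebra.IsUnramifiedAt A P) : Algebra.Etale A B := by
  have := formallyUnramified_of_codim_one H
  have : Module.FinitePresentation A B := Module.finitePresentation_of_finite A B
  have : Algebra.FinitePresentation A B := inferInstance
  exact Algebra.Etale.of_formallyUnramified_of_flat

end Groth.Agent.Helper19.FinFlatPur
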