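import Mathlib
import Groth.Agent.Lib.Helper19.Purity.FinFlat

/-!
# Finite flat morphisms étale in codimension ≤ 1 are étale (scheme level)

Helper library of helper19 (for S14462).
-/

set_option autoImplicit false
universe u

open CategoryTheory AlgebraicGeometry

namespace Groth.Agent.Helper19.FinFlatPur

theorem primeIdealOf_fromSpec {X : Scheme.{u}} {U : X.Opens} (hU : IsAffineOpen U)
    (P : PrimeSpectrum Γ(X, U)) (h : hU.fromSpec P ∈ U) :
    hU.primeIdealOf ⟨hU.fromSpec P, h⟩ = P := by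
  apply hU.fromSpec.isOpenEmbedding.injective
  exact hU.fromSpec_primeIdealOf ⟨_, h⟩

theorem fromSpec_mem {X : Scheme.{u}} {U : X.Opens} (hU : IsAffineOpen U)
    (P : PrimeSpectrum Γ(X, U)) : hU.fromSpec P ∈ U := by
  rw [← SetLike.mem_coe, ← hU.range_fromSpec]
  exact ⟨P, rfl⟩

theorem ringKrullDim_stalk_eq_height {Y : Scheme.{u}} {V : Y.Opens} (hV : IsAffineOpen V)
    (y : V) : ringKrullDim (Y.presheaf.stalk (y : Y)) = (hV.primeIdealOf y).asIdeal.height := by
  haveI := hV.isLocalization_stalk y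
  exact IsLocalization.AtPrime.ringKrullDim_eq_height (hV.primeIdealOf y).asIdeal
    (Y.presheaf.stalk (y : Y))

theorem germ_formallyUnramified {Y : Scheme.{u}} {V : Y.Opens} (hV : IsAffineOpen V) (y : V) :
    (Y.presheaf.germ V y y.2).hom.FormallyUnramified := by
  haveI := hV.isLocalization_stalk y
  exact RingHom.FormallyUnramified.holdsForLocalization (Y.presheaf.stalk (y : Y))
    (hV.primeIdealOf y).asIdeal.primeCompl

/-- Unramifiedness of `Γ(Y,V) → Γ(X,f⁻¹V)` at the prime of a point `x` is equivalent to the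
stalk map at `x` being formally unramified. -/
theorem isUnramifiedAt_iff_stalkMap {X Y : Scheme.{u}} (f : X ⟶ Y) {V : Y.Opens}
    (hV : IsAffineOpen V) (hV' : IsAffineOpen (f ⁻¹ᵁ V)) (x : X) (hx : x ∈ f ⁻¹ᵁ V) :
    letI : Algebra Γ(Y, V) Γ(X, f ⁻¹ᵁ V) := (f.app V).hom.toAlgebra
    Algebra.IsUnramifiedAt Γ(Y, V) (hV'.primeIdealOf ⟨x, hx⟩).asIdeal ↔
      (f.stalkMap x).hom.FormallyUnramified := by
  letI : Algebra Γ(Y, V) Γ(X, f ⁻¹ᵁ V) := (f.app V).hom.toAlgebra
  let T := X.presheaf.stalk x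
  letI : Algebra Γ(X, f ⁻¹ᵁ V) T := (X.presheaf.germ (f ⁻¹ᵁ V) x hx).hom.toAlgebra
  letI : Algebra Γ(Y, V) T := ((f.app V) ≫ X.presheaf.germ (f ⁻¹ᵁ V) x hx).hom.toAlgebra
  haveI : IsScalarTower Γ(Y, V) Γ(X, f ⁻¹ᵁ V) T := IsScalarTower.of_algebraMap_eq' rfl
  haveI : IsLocalization.AtPrime T (hV'.primeIdealOf ⟨x, hx⟩).asIdeal :=
    hV'.isLocalization_stalk ⟨x, hx⟩
  rw [isUnramifiedAt_iff_of_isLocalization (R := Γ(Y, V)) (hV'.primeIdealOf ⟨x, hx⟩).asIdeal T,
    ← RingHom.formallyUnramified_algebraMap]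
  have hcomp : algebraMap Γ(Y, V) T =
      (f.stalkMap x).hom.comp (Y.presheaf.germ V (f x) hx).hom := by
    change ((f.app V) ≫ X.presheaf.germ (f ⁻¹ᵁ V) x hx).hom = _
    rw [← Scheme.Hom.germ_stalkMap]
    rfl
  rw [hcomp]
  constructor
  · intro h
    exact RingHom.FormallyUnramified.of_comp h
  · intro h
    refine RingHom.FormallyUnramified.comp ?_ h
    exact germ_formallyUnramified hV ⟨f x, hx⟩

/-- **Purity for finite flat morphisms**: a finite flat morphism to a locally Noetherian scheme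
which is étale over an open containing all points of codimension `≤ 1` is étale. -/
theorem etale_of_finite_flat {X Y : Scheme.{u}} [IsLocallyNoetherian Y]
    (f : X ⟶ Y) [IsFinite f] [Flat f] (U : Y.Opens)
    (hU : ∀ y : Y, y ∉ U → (2 : WithBot ℕ∞) ≤ ringKrullDim (Y.presheaf.stalk y))
    [Etale (f ∣_ U)] : Etale f := by
  haveI : LocallyOfFinitePresentation f := inferInstance
  suffices FormallyUnramified f from Etale.of_formallyUnramified_of_flat f
  refine HasRingHomProperty.of_stalkMap RingHom.FormallyUnramified.ofLocalizationPrime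
    (fun x => ?_)
  obtain ⟨_, ⟨V, hV : IsAffineOpen V, rfl⟩, hxV, -⟩ :=
    Y.isBasis_affineOpens.exists_subset_of_mem_open (Set.mem_univ (f x)) isOpen_univ
  have hV' : IsAffineOpen (f ⁻¹ᵁ V) := hV.preimage f
  letI : Algebra Γ(Y, V) Γ(X, f ⁻¹ᵁ V) := (f.app V).hom.toAlgebra
  haveI : IsNoetherianRing Γ(Y, V) := IsLocallyNoetherian.component_noetherian ⟨V, hV⟩
  haveI : Module.Finite Γ(Y, V) Γ(X, f ⁻¹ᵁ V) := f.finite_app V hV
  haveI : Module.Flat Γ(Y, V) Γ(X, f ⁻¹ᵁ V) := by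
    have := HasRingHomProperty.appLE (P := @Flat) f inferInstance ⟨V, hV⟩ ⟨_, hV'⟩ le_rfl
    rwa [← Scheme.Hom.app_eq_appLE] at this
  have key : Algebra.FormallyUnramified Γ(Y, V) Γ(X, f ⁻¹ᵁ V) := by
    refine formallyUnramified_of_codim_one (fun P _ hP => ?_)
    have hx' : hV'.fromSpec ⟨P, inferInstance⟩ ∈ f ⁻¹ᵁ V := fromSpec_mem hV' _
    have hPeq := primeIdealOf_fromSpec hV' ⟨P, inferInstance⟩ hx'
    have hcm := IsAffineOpen.comap_primeIdealOf_appLE V hV (f ⁻¹ᵁ V) hV' le_rfl hx'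
    have hyU : f (hV'.fromSpec ⟨P, inferInstance⟩) ∈ U := by
      by_contra hnot
      have h2 := hU _ hnot
      have h6 : ringKrullDim (Y.presheaf.stalk (f (hV'.fromSpec ⟨P, inferInstance⟩))) = _ :=
        ringKrullDim_stalk_eq_height hV ⟨f (hV'.fromSpec ⟨P, inferInstance⟩), hx'⟩
      rw [h6, ← hcm, hPeq, ← Scheme.Hom.app_eq_appLE] at h2
      have h3 : (2 : WithBot ℕ∞) ≤ ((1 : ℕ∞) : WithBot ℕ∞) := h2.trans (WithBot.coe_le_coe.mpr hP)
      exact absurd h3 (by decide)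
    have hst : (f.stalkMap (hV'.fromSpec ⟨P, inferInstance⟩)).hom.FormallyUnramified := by
      have h1 := FormallyUnramified.stalkMap (f ∣_ U) ⟨_, hyU⟩
      exact (RingHom.FormallyUnramified.respectsIso.arrow_mk_iso_iff
        (morphismRestrictStalkMap f U ⟨_, hyU⟩)).mp h1
    have h4 := (isUnramifiedAt_iff_stalkMap f hV hV' _ hx').mpr hst
    exact isUnramifiedAt_congr (congrArg PrimeSpectrum.asIdeal hPeq) h4
  have h5 := (Algebra.formallyUnramified_iff_forall.mp key) (hV'.primeIdealOf ⟨x, hxV⟩)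
  exact (isUnramifiedAt_iff_stalkMap f hV hV' x hxV).mp h5

end Groth.Agent.Helper19.FinFlatPur
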